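import Cfsg.Agent.H953.DpC
import Cfsg.Agent.H264.FKS.Char
import Cfsg.Agent.H851.Dg.Big
import Cfsg.Agent.H491.Dp.PsuCyc
import Cfsg.Agent.H398.FPR.PsuThree

/-!
# S5734: the Sylow subgroups for the large primes of the classical groups are cyclic (helper953)

`cyc_psl`, `cyc_psu`, `cyc_psp`, `cyc_oodd`, `cyc_oplus`, `cyc_ominus` : `BigU g u → CycP u T`.
-/

set_option autoImplicit false

namespace Cfsg.Agent.H953.Dg

open Subgroup Cfsg Cfsg.Agent.OrdDiv Cfsg.Agent.H436 Cfsg.Agent.H915.GN Cfsg.Agent.H192.Dp Cfsg.Agent.H851.Dg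

theorem cycP_of_sylow {T : Type*} [Group T] [Finite T] {u : ℕ} (hu : u.Prime)
    (h : ∀ P : Sylow u T, IsCyclic ↥(P : Subgroup T)) : CycP u T := by
  intro P hP
  have := Fact.mk hu
  obtain ⟨S, hS⟩ := hP.exists_le_sylow
  have := h S
  exact isCyclic_of_injective (Subgroup.inclusion hS) (Subgroup.inclusion_injective hS)

/-- the order of an element of the multiplicative monoid modulo two -/
theorem orderOf_two (a : ZMod 2) : orderOf a ≤ 1 := by
  fin_cases a
  · have : orderOf (0 : ZMod 2) = 0 := by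
      rw [orderOf_eq_zero_iff, isOfFinOrder_iff_pow_eq_one]
      rintro ⟨n, hn, h⟩
      rw [zero_pow hn.ne'] at h
      exact zero_ne_one h
    exact this.le.trans zero_le_one
  · exact (orderOf_one (G := ZMod 2)).le

variable {F : Type} [Field F] [Fintype F] {u : ℕ}

theorem cyc_psl {n : ℕ} (hn : 3 ≤ n) (hu : BigU (.psl n (Fintype.card F)) u) :
    CycP u (Matrix.ProjectiveSpecialLinearGroup (Fin n) F) := by
  obtain ⟨hu, h1, h2⟩ := hu
  have := Fact.mk hu
  have hq : 2 ≤ Fintype.card F := Fintype.one_lt_card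
  have hd := Cfsg.Agent.H948.OnPO.dvd_iff (p := u) (q := Fintype.card F) (by omega) rfl
  have hu2 : u ≠ 2 := by
    rintro rfl
    have := orderOf_two ((Fintype.card F : ℕ) : ZMod 2)
    omega
  have hfin : Finite (Matrix.ProjectiveSpecialLinearGroup (Fin n) F) := Quotient.finite _
  refine cycP_of_sylow hu fun P => ?_
  exact H124.LinCyc.isCyclic_sylow_of_gl (ι := Fin n) hu2 (by omega) hd (by rw [Fintype.card_fin]; exact h1)
    (Matrix.SpecialLinearGroup.toGL : Matrix.SpecialLinearGroup (Fin n) F →* _)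
    Matrix.SpecialLinearGroup.toGL_injective
    (QuotientGroup.mk' (Subgroup.center (Matrix.SpecialLinearGroup (Fin n) F))) (QuotientGroup.mk'_surjective _) P

theorem cyc_psp {m : ℕ} (hm : 2 ≤ m) (hu : BigU (.psp m (Fintype.card F)) u) : CycP u (PSp m F) := by
  obtain ⟨hu, h⟩ := hu
  have := Fact.mk hu
  have hq : 2 ≤ Fintype.card F := Fintype.one_lt_card
  have hd := Cfsg.Agent.H948.OnPO.dvd_iff (p := u) (q := Fintype.card F) (by omega) rfl
  rcases Nat.lt_or_ge 2 m with h3 | h3
  · have hN := H264.FKS.named_psp F (n := m) (by omega) (by omega)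
    refine cycP_of_sylow hu (Dp.psp_row hN h3 hu ⟨_, ⟨?_, h⟩, rfl⟩).cyc
    rcases h with h | ⟨⟨k, hk⟩, h1, h2⟩
    · omega
    · omega
  · have hm2 : m = 2 := by omega
    subst hm2
    have h4 : 2 < orderOf ((Fintype.card F : ℕ) : ZMod u) := by
      rcases h with h | ⟨⟨k, hk⟩, h1, h2⟩
      · omega
      · omega
    have hu2 : u ≠ 2 := by
      rintro rfl
      have := orderOf_two ((Fintype.card F : ℕ) : ZMod 2)
      omega
    refine cycP_of_sylow hu fun P => ?_
    exact H124.LinCyc.isCyclic_sylow_of_gl (ι := Fin 2 ⊕ Fin 2) hu2 (by omega) hd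
      (by rw [Fintype.card_sum, Fintype.card_fin]; omega)
      (MonoidHom.toHomUnits (Matrix.symplecticGroup (Fin 2) F).subtype)
      (fun a b hab => Subtype.ext (congrArg Units.val hab))
      (QuotientGroup.mk' (Subgroup.center (Matrix.symplecticGroup (Fin 2) F))) (QuotientGroup.mk'_surjective _) P

theorem cyc_oodd {m : ℕ} (hm : 3 ≤ m) (ho : Odd (Fintype.card F)) (hu : BigU (.oodd m (Fintype.card F)) u) :
    CycP u (POmega F (quadFormOdd m F)) := by
  obtain ⟨hu, h⟩ := hu
  have hfin : Finite (POmega F (quadFormOdd m F)) := Quotient.finite _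
  refine cycP_of_sylow hu (Dp.oodd_row (H264.FKS.named_oodd F hm ho) hm hu ⟨_, ⟨?_, h⟩, rfl⟩).cyc
  rcases h with h | ⟨⟨k, hk⟩, h1, h2⟩ <;> omega

theorem cyc_oplus {m : ℕ} (hm : 4 ≤ m) (hu : BigU (.oplus m (Fintype.card F)) u) :
    CycP u (POmega F (quadFormPlus m F)) := by
  obtain ⟨hu, h⟩ := hu
  have hfin : Finite (POmega F (quadFormPlus m F)) := Quotient.finite _
  refine cycP_of_sylow hu (Dp.oplus_row (H264.FKS.named_oplus F hm) hm hu ⟨_, ⟨?_, ?_⟩, rfl⟩).cyc
  · rcases h with h | ⟨⟨k, hk⟩, h1, h2⟩ <;> omega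
  · rcases h with ⟨h1, h2, h3⟩ | h
    · exact Or.inl ⟨h1, h2, by omega⟩
    · exact Or.inr h

theorem cyc_ominus {m : ℕ} (hm : 4 ≤ m) {a b : F}
    (hab : ∀ z₁ z₂ : F, z₁ ^ 2 + a * z₁ * z₂ + b * z₂ ^ 2 = 0 → z₁ = 0 ∧ z₂ = 0)
    (hu : BigU (.ominus m (Fintype.card F)) u) : CycP u (POmega F (quadFormMinus (m - 1) F a b)) := by
  obtain ⟨hu, h⟩ := hu
  have hfin : Finite (POmega F (quadFormMinus (m - 1) F a b)) := Quotient.finite _
  refine cycP_of_sylow hu (Dp.ominus_row (H264.FKS.named_ominus F hm hab) hm hu ⟨_, ⟨?_, h⟩, rfl⟩).cyc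
  rcases h with h | ⟨⟨k, hk⟩, h1, h2⟩ <;> omega

theorem cyc_psu {n q : ℕ} (hF : Fintype.card F = q ^ 2) (hn : 3 ≤ n) (hu : BigU (.psu n q) u) :
    CycP u (PSU n F q) := by
  obtain ⟨hu, h1, h2⟩ := hu
  have := Fact.mk hu
  have hu2 : u ≠ 2 := by
    rintro rfl
    have := orderOf_two (-((q : ℕ) : ZMod 2))
    omega
  have hfin : Finite (PSU n F q) := Quotient.finite _
  have huq : ¬ u ∣ q := by
    intro hd
    have h3 : (q : ZMod u) = 0 := (ZMod.natCast_eq_zero_iff _ _).2 hd
    have h4 : (-(q : ZMod u)) ^ orderOf (-(q : ZMod u)) = 1 := pow_orderOf_eq_one _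
    rw [h3, neg_zero, zero_pow] at h4
    · exact zero_ne_one h4
    · have := h1
      rw [h3, neg_zero] at this
      omega
  have huF : (u : F) ≠ 0 := by
    intro h
    obtain ⟨p, hp⟩ := CharP.exists F
    obtain ⟨k, hpp, hk⟩ := FiniteField.card F p
    have h1 : p ∣ u := (CharP.cast_eq_zero_iff F p u).1 h
    have h2 : p = u := (Nat.prime_dvd_prime_iff_eq hpp hu).1 h1
    apply huq
    apply hu.dvd_of_dvd_pow (n := 2)
    rw [← hF, hk, h2]
    exact dvd_pow_self u k.ne_zero
  refine cycP_of_sylow hu fun P => ?_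
  rcases Nat.lt_or_ge 2 (orderOf (-(q : ZMod u))) with h3 | h3
  · -- from the Sylow subgroup of `SU`
    have hG : Finite (SU n F q) := inferInstance
    obtain ⟨S⟩ : Nonempty (Sylow u (SU n F q)) := inferInstance
    let σ : ↥(S : Subgroup (SU n F q)) →* Matrix.GeneralLinearGroup (Fin n) F :=
      (Matrix.SpecialLinearGroup.toGL.comp (SU n F q).subtype).comp (S : Subgroup (SU n F q)).subtype
    have hS : IsCyclic S := H491.Dp.PSU.isCyclic_of hF (e := orderOf (-(q : ZMod u))) h3 h1 rfl S.isPGroup' huF σ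
      ((Matrix.SpecialLinearGroup.toGL_injective.comp (Subgroup.subtype_injective _)).comp
        (Subgroup.subtype_injective _)) (fun a => a.1.2)
    have hS2 : IsCyclic (S.mapSurjective (f := QuotientGroup.mk' (Subgroup.center (SU n F q)))
        (QuotientGroup.mk'_surjective _)) := by
      change IsCyclic ((S : Subgroup (SU n F q)).map (QuotientGroup.mk' (Subgroup.center (SU n F q))))
      exact isCyclic_of_surjective ((QuotientGroup.mk' (Subgroup.center (SU n F q))).subgroupMap
        (S : Subgroup (SU n F q))) (MonoidHom.subgroupMap_surjective _ _)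
    exact isCyclic_of_surjective ((S.mapSurjective (f := QuotientGroup.mk' (Subgroup.center (SU n F q)))
      (QuotientGroup.mk'_surjective _)).equiv P).toMonoidHom (MulEquiv.surjective _)
  · -- `n = 3`, `u ∣ q - 1`
    have hn3 : n = 3 := by omega
    subst hn3
    have ho : orderOf (-(q : ZMod u)) = 2 := by omega
    have hsq : (-(q : ZMod u)) ^ 2 = 1 := by rw [← ho, pow_orderOf_eq_one]
    have hne : -(q : ZMod u) ≠ 1 := by
      intro h
      rw [h, orderOf_one] at ho
      omega
    have hq1 : (q : ZMod u) = 1 := by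
      rw [sq, mul_self_eq_one_iff] at hsq
      rcases hsq with h | h
      · exact absurd h hne
      · exact neg_inj.1 h
    have hq0 : q ≠ 0 := by
      rintro rfl
      exact huq (dvd_zero u)
    have hd : u ∣ q - 1 := by
      rw [← ZMod.natCast_eq_zero_iff, Nat.cast_sub (by omega), hq1, Nat.cast_one, sub_self]
    have hq3 : 3 ≤ q := by
      have h5 : q ≠ 1 := by
        rintro rfl
        rw [one_pow] at hF
        have := Fintype.one_lt_card (α := F)
        omega
      have := Nat.le_of_dvd (by omega) hd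
      have := hu.two_le
      omega
    exact H398.FPR.PsuThree.cyclic_of_dvd_sub hF hq3 hu2 hd P

end Cfsg.Agent.H953.Dg
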